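import Groth.Agent.SiteTorsion.Basic
import Groth.Agent.DerAdj.Coreflect
import Groth.Agent.KInjRes.Stable

/-!
`D(torsion sheaves) ≅ D_tors(sheaves)`.
-/

universe u w w'

open CategoryTheory Limits Opposite

set_option synthInstance.maxSize 1000

namespace Groth.Agent.SiteTorsion

variable {C : Type u} [SmallCategory C] {J : GrothendieckTopology C}


/-- the torsion subsheaf functor -/
noncomputable def R : (Sheaf J AddCommGrpCat.{u}) ⥤ (SiteCmp.torsionSh J).FullSubcategory where
  obj F := ⟨tor F, isTorsionSh_tor F⟩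
  map {F G} φ := ObjectProperty.homMk
    (exists_lift (incl F ≫ φ) (mem_of_torsion (isTorsionSh_tor F) _)).choose
  map_id F := by
    ext : 1
    refine (cancel_mono (incl F)).1 ?_
    exact (exists_lift (incl F ≫ 𝟙 F) (mem_of_torsion (isTorsionSh_tor F) _)).choose_spec.trans
      ((Category.comp_id _).trans (Category.id_comp _).symm)
  map_comp {F G H} φ ψ := by
    ext : 1
    refine (cancel_mono (incl H)).1 ?_
    refine (exists_lift (incl F ≫ φ ≫ ψ) (mem_of_torsion (isTorsionSh_tor F) _)).choose_spec.trans ?_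
    refine Eq.trans ?_ (Category.assoc _ _ _).symm
    show _ = (exists_lift (incl F ≫ φ) (mem_of_torsion (isTorsionSh_tor F) _)).choose ≫
      (exists_lift (incl G ≫ ψ) (mem_of_torsion (isTorsionSh_tor G) _)).choose ≫ incl H
    rw [(exists_lift (incl G ≫ ψ) (mem_of_torsion (isTorsionSh_tor G) _)).choose_spec,
      reassoc_of% (exists_lift (incl F ≫ φ) (mem_of_torsion (isTorsionSh_tor F) _)).choose_spec]

theorem R_map_incl {F G : (Sheaf J AddCommGrpCat.{u})} (φ : F ⟶ G) : (R.map φ).hom ≫ incl G = incl F ≫ φ :=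
  (exists_lift (incl F ≫ φ) (mem_of_torsion (isTorsionSh_tor F) _)).choose_spec

/-- the coreflection adjunction -/
noncomputable def adjR : (SiteCmp.torsionSh J).ι ⊣ R where
  unit :=
    { app := fun X => ObjectProperty.homMk (exists_lift (𝟙 X.obj) (mem_of_torsion X.property _)).choose
      naturality := fun X Y f => by
        ext : 1
        refine (cancel_mono (incl Y.obj)).1 ?_
        show (f.hom ≫ (exists_lift (𝟙 Y.obj) (mem_of_torsion Y.property _)).choose) ≫ incl Y.obj =
          ((exists_lift (𝟙 X.obj) (mem_of_torsion X.property _)).choose ≫ (R.map f.hom).hom) ≫ incl Y.obj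
        refine ((Category.assoc _ _ _).trans ?_).trans (Category.assoc _ _ _).symm
        refine ((congrArg (f.hom ≫ ·) (exists_lift (𝟙 Y.obj) (mem_of_torsion Y.property _)).choose_spec).trans
          (Category.comp_id _)).trans (Eq.symm ?_)
        refine (congrArg (_ ≫ ·) (R_map_incl f.hom)).trans ((Category.assoc _ _ _).symm.trans ?_)
        exact (congrArg (· ≫ f.hom) (exists_lift (𝟙 X.obj) (mem_of_torsion X.property _)).choose_spec).trans
          (Category.id_comp _) }
  counit := { app := fun F => incl F, naturality := fun F G φ => R_map_incl φ }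
  left_triangle_components X := (exists_lift (𝟙 X.obj) (mem_of_torsion X.property _)).choose_spec
  right_triangle_components F := by
    ext : 1
    refine (cancel_mono (incl F)).1 ?_
    show (((exists_lift (𝟙 (tor F)) (mem_of_torsion (isTorsionSh_tor F) _)).choose) ≫ (R.map (incl F)).hom) ≫ incl F
      = 𝟙 (tor F) ≫ incl F
    refine (Category.assoc _ _ _).trans ((congrArg (_ ≫ ·) (R_map_incl (incl F))).trans ?_)
    refine (Category.assoc _ _ _).symm.trans ?_
    exact congrArg (· ≫ incl F) (exists_lift (𝟙 (tor F)) (mem_of_torsion (isTorsionSh_tor F) _)).choose_spec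

instance : (R (J := J)).Additive where
  map_add {F G f g} := by
    ext : 1
    refine (cancel_mono (incl G)).1 ?_
    show (R.map (f + g)).hom ≫ incl G = ((R.map f).hom + (R.map g).hom) ≫ incl G
    refine (R_map_incl (f + g)).trans ((Preadditive.comp_add _ _ _ _ _ _).trans ?_)
    refine (congrArg₂ (· + ·) (R_map_incl f).symm (R_map_incl g).symm).trans ?_
    exact (Preadditive.add_comp _ _ _ _ _ _).symm

variable [(SiteCmp.torsionSh J).IsSerreClass]

/-- in a short exact sequence `tor I → I → Q` with `I` divisible, `Q` is uniquely divisible -/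
theorem isIso_nsmul_quot (I : (Sheaf J AddCommGrpCat.{u})) [Injective I] {Q : (Sheaf J AddCommGrpCat.{u})} (g : I ⟶ Q) (w : incl I ≫ g = 0)
    (hS : (ShortComplex.mk (incl I) g w).ShortExact) {n : ℕ} (hn : 0 < n) : IsIso (n • 𝟙 Q) := by
  haveI := hS.epi_g
  haveI : Epi (n • 𝟙 I) := epi_nsmul_id n fun U s => injective_divisible I hn U.unop s
  haveI : Epi (n • 𝟙 (tor I)) := epi_nsmul_id n fun U s => by
    obtain ⟨t, ht⟩ := injective_divisible I hn U.unop s.1
    obtain ⟨S, hS, hs⟩ := s.2
    refine ⟨⟨t, S, hS, fun V k hk => ?_⟩, Subtype.ext ht⟩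
    obtain ⟨m, hm, hms⟩ := isOfFinAddOrder_iff_nsmul_eq_zero.1 (hs k hk)
    refine isOfFinAddOrder_iff_nsmul_eq_zero.2 ⟨m * n, Nat.mul_pos hm hn, ?_⟩
    rw [mul_nsmul', ← map_nsmul]
    exact (congrArg (fun x => m • (I.obj.map k.op).hom x) ht).trans hms
  have e : (n • 𝟙 I) ≫ g = g ≫ (n • 𝟙 Q) := by
    rw [Preadditive.nsmul_comp, Preadditive.comp_nsmul, Category.id_comp, Category.comp_id]
  haveI : Epi (g ≫ (n • 𝟙 Q)) := e ▸ epi_comp _ _
  haveI : Epi (n • 𝟙 Q) := epi_of_epi g _
  haveI : Mono (n • 𝟙 Q) := Preadditive.mono_of_cancel_zero _ fun {A} x hx => by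
    obtain ⟨A₁, π₁, hπ₁, y, hy⟩ := surjective_up_to_refinements_of_epi g x
    have hy0 : (n • y) ≫ g = 0 := by
      rw [Preadditive.nsmul_comp, ← hy, ← Preadditive.comp_nsmul]
      rw [Preadditive.comp_nsmul, Category.comp_id] at hx
      rw [hx, comp_zero]
    obtain ⟨A₂, π₂, hπ₂, z, hz⟩ := (ShortComplex.exact_iff_exact_up_to_refinements _).1 hS.exact _ hy0
    obtain ⟨A₃, π₃, hπ₃, w', hw⟩ := surjective_up_to_refinements_of_epi (n • 𝟙 (tor I)) z
    let d := π₃ ≫ π₂ ≫ y - w' ≫ incl I
    have hd : n • d = 0 := by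
      have h1 : π₃ ≫ z = n • w' := by rw [hw, Preadditive.comp_nsmul, Category.comp_id]
      have h2 : π₃ ≫ π₂ ≫ (n • y) = (π₃ ≫ z) ≫ incl I := by
        rw [Category.assoc]; exact congrArg (π₃ ≫ ·) hz
      rw [smul_sub, ← Preadditive.comp_nsmul, ← Preadditive.comp_nsmul, h2, h1, Preadditive.nsmul_comp, sub_self]
    obtain ⟨v, hv⟩ := exists_lift d (mem_of_nsmul_eq_zero d hn hd)
    have h3 : (π₃ ≫ π₂ ≫ π₁) ≫ x = 0 := by
      rw [Category.assoc, Category.assoc, hy]
      have h4 : π₃ ≫ π₂ ≫ y = (v + w') ≫ incl I := by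
        rw [Preadditive.add_comp, hv]; simp [d]
      rw [← Category.assoc π₂, ← Category.assoc π₃, h4, Category.assoc, w, comp_zero]
    rwa [← cancel_epi (π₃ ≫ π₂ ≫ π₁), comp_zero]
  exact isIso_of_mono_of_epi _

theorem isZero_of_torsion {F : (Sheaf J AddCommGrpCat.{u})} (hF : SiteCmp.IsTorsionSh J F) (h : ∀ n : ℕ, 0 < n → IsIso (n • 𝟙 F)) :
    IsZero F := by
  rw [IsZero.iff_id_eq_zero]
  refine Sheaf.hom_ext (NatTrans.ext (funext fun U => ?_))
  ext s
  obtain ⟨S, hS, hs⟩ := hF U.unop s
  refine Presieve.IsSeparatedFor.ext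
    ((((isSheaf_iff_isSheaf_of_type J _).1 ((Presheaf.isSheaf_iff_isSheaf_forget J F.obj
      (forget AddCommGrpCat.{u})).1 F.property)).isSeparated) S hS) ?_
  intro V g hg
  obtain ⟨n, hn, hns⟩ := isOfFinAddOrder_iff_nsmul_eq_zero.1 (hs g hg)
  haveI := h n hn
  haveI : Mono ((n • 𝟙 F).hom.app (op V)) := by
    haveI : IsIso ((n • 𝟙 F).hom) := inferInstanceAs (IsIso ((sheafToPresheaf J _).map (n • 𝟙 F)))
    infer_instance
  have hinj := (AddCommGrpCat.mono_iff_injective ((n • 𝟙 F).hom.app (op V))).1 inferInstance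
  refine hinj (a₁ := (F.obj.map g.op).hom s) (a₂ := (F.obj.map g.op).hom 0) ?_
  rw [hom_nsmul_app, map_zero, map_zero]
  exact hns

theorem prop_homology {K : CochainComplex (Sheaf J AddCommGrpCat.{u}) ℤ} (h : ∀ n, SiteCmp.torsionSh J (K.X n)) (i : ℤ) :
    SiteCmp.torsionSh J (K.homology i) :=
  (SiteCmp.torsionSh J).prop_of_epi (K.homologyπ i) ((SiteCmp.torsionSh J).prop_of_mono (K.iCycles i) (h i))

theorem quasiIso_counit (I : CochainComplex (Sheaf J AddCommGrpCat.{u}) ℤ) (hinj : ∀ n, Injective (I.X n))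
    (hI : ∀ i, SiteCmp.torsionSh J (I.homology i)) :
    QuasiIso ((KInjRes.mapHCAdj adjR (ComplexShape.up ℤ)).counit.app I) := by
  let f := (KInjRes.mapHCAdj adjR (ComplexShape.up ℤ)).counit.app I
  haveI : ∀ n, Mono (f.f n) := fun n => (inferInstance : Mono (incl (I.X n)))
  haveI : Mono f := HomologicalComplex.mono_of_mono_f _ inferInstance
  rw [KInjRes.quasiIso_iff_acyclic_cokernel f]
  let S := ShortComplex.mk f (cokernel.π f) (cokernel.condition f)
  have hS : S.ShortExact := { exact := ShortComplex.exact_cokernel f }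
  intro i
  rw [HomologicalComplex.exactAt_iff_isZero_homology]
  refine isZero_of_torsion ?_ fun n hn => ?_
  · exact (SiteCmp.torsionSh J).prop_X₂_of_exact (hS.homology_exact₃ i (i + 1) rfl) (hI i)
      (prop_homology (K := S.X₁) (fun m => isTorsionSh_tor (I.X m)) (i + 1))
  · haveI : ∀ m, IsIso ((n • 𝟙 (cokernel f)).f m) := fun m => by
      have h := hS.map_of_exact (HomologicalComplex.eval (Sheaf J AddCommGrpCat.{u}) (ComplexShape.up ℤ) m)
      haveI := hinj m
      have := isIso_nsmul_quot (I.X m) ((cokernel.π f).f m)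
        (by exact (HomologicalComplex.comp_f f (cokernel.π f) m).symm.trans (by rw [cokernel.condition]; rfl)) h hn
      rw [HomologicalComplex.nsmul_f_apply, HomologicalComplex.id_f]
      exact this
    haveI := HomologicalComplex.Hom.isIso_of_components (n • 𝟙 (cokernel f))
    have e := ((HomologicalComplex.homologyFunctor (Sheaf J AddCommGrpCat.{u}) (ComplexShape.up ℤ) i).map_nsmul
      (n := n) (f := 𝟙 (cokernel f))).trans (congrArg (n • ·)
        ((HomologicalComplex.homologyFunctor (Sheaf J AddCommGrpCat.{u}) (ComplexShape.up ℤ) i).map_id (cokernel f)))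
    exact (e ▸ Functor.map_isIso _ _ :)

theorem toDerived_torsion_equiv [HasDerivedCategory.{w} (Sheaf J AddCommGrpCat.{u})]
    [HasDerivedCategory.{w'} (SiteCmp.torsionSh J).FullSubcategory] :
    (WSerre.toDerived (SiteCmp.torsionSh J)).Full ∧ (WSerre.toDerived (SiteCmp.torsionSh J)).Faithful ∧
      ∀ K : DerivedCategory (Sheaf J AddCommGrpCat.{u}),
        WSerre.cohIn (SiteCmp.torsionSh J) K ↔ (WSerre.toDerived (SiteCmp.torsionSh J)).essImage K :=
  Groth.Agent.DerAdj.toDerived_equiv_of_coreflective _ R adjR quasiIso_counit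

end Groth.Agent.SiteTorsion
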