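import Mathlib
import Groth.Prelude.Def_SiteCmp

/-!
The torsion subsheaf of an abelian sheaf; sections of injective sheaves are divisible.
-/

universe u

open CategoryTheory Limits Opposite

namespace Groth.Agent.SiteTorsion

variable {C : Type u} [SmallCategory C] {J : GrothendieckTopology C} (F : Sheaf J AddCommGrpCat.{u})

/-- sections which are locally of finite order -/
def sect (U : Cᵒᵖ) : AddSubgroup (F.obj.obj U) where
  carrier := {s | ∃ S ∈ J U.unop, ∀ ⦃V : C⦄ (g : V ⟶ U.unop), S g → IsOfFinAddOrder ((F.obj.map g.op).hom s)}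
  zero_mem' := ⟨⊤, J.top_mem _, fun V g _ => by simp⟩
  add_mem' := by
    rintro a b ⟨S, hS, ha⟩ ⟨T, hT, hb⟩
    refine ⟨S ⊓ T, J.intersection_covering hS hT, fun V g hg => ?_⟩
    rw [map_add]
    exact (ha g hg.1).add (hb g hg.2)
  neg_mem' := by
    rintro a ⟨S, hS, ha⟩
    exact ⟨S, hS, fun V g hg => by rw [map_neg]; exact (ha g hg).neg⟩

theorem sect_map {U V : Cᵒᵖ} (i : U ⟶ V) {s : F.obj.obj U} (h : s ∈ sect F U) :
    (F.obj.map i).hom s ∈ sect F V := by
  obtain ⟨S, hS, h⟩ := h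
  refine ⟨S.pullback i.unop, J.pullback_stable _ hS, fun W g hg => ?_⟩
  have := h (g ≫ i.unop) hg
  rwa [op_comp, Quiver.Hom.op_unop, Functor.map_comp, AddCommGrpCat.hom_comp] at this

theorem sect_of_local {U : C} {s : F.obj.obj (op U)} (S : Sieve U) (hS : S ∈ J U)
    (h : ∀ ⦃V : C⦄ (g : V ⟶ U), S g → (F.obj.map g.op).hom s ∈ sect F (op V)) : s ∈ sect F (op U) := by
  choose T hT hfin using h
  refine ⟨Sieve.bind S.1 fun V g hg => T g hg, J.bind_covering hS fun V g hg => hT g hg, ?_⟩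
  rintro W _ ⟨V, a, g, hg, ha, rfl⟩
  have := hfin g hg a ha
  rwa [op_comp, Functor.map_comp, AddCommGrpCat.hom_comp]

/-- the torsion presheaf -/
def psh : Cᵒᵖ ⥤ AddCommGrpCat.{u} where
  obj U := AddCommGrpCat.of (sect F U)
  map {U V} i := AddCommGrpCat.ofHom
    { toFun := fun s => ⟨(F.obj.map i).hom s.1, sect_map F i s.2⟩
      map_zero' := Subtype.ext (map_zero _)
      map_add' := fun a b => Subtype.ext (map_add _ _ _) }
  map_id U := by ext s; exact ConcreteCategory.congr_hom (F.obj.map_id U) s.1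
  map_comp i j := by ext s; exact ConcreteCategory.congr_hom (F.obj.map_comp i j) s.1

/-- the torsion subfunctor of the underlying presheaf of sets -/
def subf : Subfunctor (F.obj ⋙ forget AddCommGrpCat.{u}) where
  obj U := (sect F U : Set (F.obj.obj U))
  map i := fun _ hs => sect_map F i hs

theorem isSheaf_psh : Presheaf.IsSheaf J (psh F) := by
  rw [Presheaf.isSheaf_iff_isSheaf_forget J (psh F) (forget AddCommGrpCat.{u})]
  have hF : Presheaf.IsSheaf J (F.obj ⋙ forget AddCommGrpCat.{u}) :=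
    (Presheaf.isSheaf_iff_isSheaf_forget J F.obj (forget AddCommGrpCat.{u})).1 F.property
  rw [isSheaf_iff_isSheaf_of_type] at hF
  refine (Presheaf.isSheaf_of_iso_iff (NatIso.ofComponents (fun U => Iso.refl _) fun i => rfl :
    (subf F).toFunctor ≅ psh F ⋙ forget AddCommGrpCat.{u})).1 ?_
  rw [isSheaf_iff_isSheaf_of_type, (subf F).isSheaf_iff hF]
  intro U s hs
  exact sect_of_local F _ hs fun V g hg => hg

/-- the torsion subsheaf -/
def tor : Sheaf J AddCommGrpCat.{u} := ⟨psh F, isSheaf_psh F⟩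

/-- the inclusion -/
def incl : tor F ⟶ F :=
  ⟨{ app := fun U => AddCommGrpCat.ofHom (sect F U).subtype }⟩

instance : Mono (incl F) := by
  haveI : ∀ U, Mono ((incl F).hom.app U) := fun U =>
    (AddCommGrpCat.mono_iff_injective _).2 Subtype.val_injective
  haveI : Mono (incl F).hom := NatTrans.mono_of_mono_app _
  exact (sheafToPresheaf J AddCommGrpCat.{u}).mono_of_mono_map (inferInstanceAs (Mono (incl F).hom))

theorem isTorsionSh_tor : SiteCmp.IsTorsionSh J (tor F) := by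
  rintro U ⟨s, S, hS, h⟩
  refine ⟨S, hS, fun V g hg => ?_⟩
  obtain ⟨n, hn, hns⟩ := isOfFinAddOrder_iff_nsmul_eq_zero.1 (h g hg)
  exact isOfFinAddOrder_iff_nsmul_eq_zero.2 ⟨n, hn, Subtype.ext hns⟩

variable {F}

theorem exists_lift {X : Sheaf J AddCommGrpCat.{u}} (φ : X ⟶ F)
    (h : ∀ U x, (φ.hom.app U).hom x ∈ sect F U) : ∃ ψ : X ⟶ tor F, ψ ≫ incl F = φ := by
  refine ⟨⟨{ app := fun U => AddCommGrpCat.ofHom ((φ.hom.app U).hom.codRestrict (sect F U) (h U))
             naturality := fun U V i => ?_ }⟩, ?_⟩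
  · ext x
    exact Subtype.ext (NatTrans.naturality_apply φ.hom i x)
  · exact Sheaf.hom_ext rfl

theorem mem_of_torsion {X : Sheaf J AddCommGrpCat.{u}} (hX : SiteCmp.IsTorsionSh J X) (φ : X ⟶ F) (U : Cᵒᵖ)
    (x : X.obj.obj U) : (φ.hom.app U).hom x ∈ sect F U := by
  obtain ⟨S, hS, h⟩ := hX U.unop x
  refine ⟨S, hS, fun V g hg => ?_⟩
  have := (φ.hom.app (op V)).hom.isOfFinAddOrder (h g hg)
  have e := NatTrans.naturality_apply φ.hom g.op x
  exact e ▸ this

theorem hom_nsmul_app {X : Sheaf J AddCommGrpCat.{u}} (n : ℕ) (φ : X ⟶ F) (U : Cᵒᵖ) (x : X.obj.obj U) :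
    ((n • φ).hom.app U).hom x = n • (φ.hom.app U).hom x := by
  rw [show (n • φ).hom = n • φ.hom from (sheafToPresheaf J AddCommGrpCat.{u}).map_nsmul, NatTrans.app_nsmul]
  rfl

theorem mem_of_nsmul_eq_zero {X : Sheaf J AddCommGrpCat.{u}} (φ : X ⟶ F) {n : ℕ} (hn : 0 < n) (h : n • φ = 0)
    (U : Cᵒᵖ) (x : X.obj.obj U) : (φ.hom.app U).hom x ∈ sect F U := by
  refine ⟨⊤, J.top_mem _, fun V g _ => isOfFinAddOrder_iff_nsmul_eq_zero.2 ⟨n, hn, ?_⟩⟩
  rw [← map_nsmul, ← hom_nsmul_app, h]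
  exact map_zero _

theorem epi_nsmul_id {X : Sheaf J AddCommGrpCat.{u}} (n : ℕ)
    (h : ∀ (U : Cᵒᵖ) (s : X.obj.obj U), ∃ t, n • t = s) : Epi (n • 𝟙 X) := by
  haveI : ∀ U, Epi ((n • 𝟙 X).hom.app U) := fun U => (AddCommGrpCat.epi_iff_surjective _).2 fun s => by
    obtain ⟨t, ht⟩ := h U s
    exact ⟨t, (hom_nsmul_app n (𝟙 X) U t).trans ht⟩
  haveI : Epi (n • 𝟙 X).hom := NatTrans.epi_of_epi_app _
  exact (sheafToPresheaf J AddCommGrpCat.{u}).epi_of_epi_map (inferInstanceAs (Epi (n • 𝟙 X).hom))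

/-- sections of injective sheaves are divisible -/
theorem injective_divisible (I : Sheaf J AddCommGrpCat.{u}) [Injective I] {n : ℕ} (hn : 0 < n) (U : C)
    (s : I.obj.obj (op U)) : ∃ t, n • t = s := by
  let P : Cᵒᵖ ⥤ AddCommGrpCat.{u} := yoneda.obj U ⋙ AddCommGrpCat.free
  let G := (presheafToSheaf J AddCommGrpCat.{u}).obj P
  let A := sheafificationAdjunction J AddCommGrpCat.{u}
  let m : yoneda.obj U ⟶ I.obj ⋙ forget AddCommGrpCat.{u} := yonedaEquiv.symm s
  let φ₀ : P ⟶ I.obj := Functor.whiskerRight m AddCommGrpCat.free ≫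
    (Functor.associator _ _ _).hom ≫ Functor.whiskerLeft I.obj AddCommGrpCat.adj.counit ≫ (Functor.rightUnitor _).hom
  let φ : G ⟶ I := (A.homEquiv P I).symm φ₀
  haveI : Mono (n • 𝟙 P) := by
    haveI : ∀ V, Mono ((n • 𝟙 P).app V) := fun V => (AddCommGrpCat.mono_iff_injective _).2 fun a b hab => by
      rw [NatTrans.app_nsmul] at hab
      let e := FreeAbelianGroup.equivFinsupp ((yoneda.obj U).obj V)
      have hab' : n • (a : FreeAbelianGroup ((yoneda.obj U).obj V)) = n • b := hab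
      refine e.injective ((nsmul_right_injective hn.ne') ?_)
      show n • e a = n • e b
      exact (map_nsmul e n a).symm.trans ((congrArg e hab').trans (map_nsmul e n b))
    exact NatTrans.mono_of_mono_app _
  haveI : Mono (n • 𝟙 G) := by
    rw [show n • 𝟙 G = (presheafToSheaf J AddCommGrpCat.{u}).map (n • 𝟙 P) by
      rw [(presheafToSheaf J AddCommGrpCat.{u}).map_nsmul, (presheafToSheaf J AddCommGrpCat.{u}).map_id]]
    infer_instance
  let ψ := Injective.factorThru φ (n • 𝟙 G)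
  have hψ : n • ψ = φ := by
    rw [← Injective.comp_factorThru φ (n • 𝟙 G), Preadditive.nsmul_comp, Category.id_comp]
  let e : G.obj.obj (op U) := ((A.unit.app P).app (op U)).hom (FreeAbelianGroup.of (𝟙 U))
  refine ⟨(ψ.hom.app (op U)).hom e, ?_⟩
  rw [← hom_nsmul_app, hψ]
  have h1 : A.homEquiv P I φ = φ₀ := (A.homEquiv P I).apply_symm_apply φ₀
  rw [Adjunction.homEquiv_unit] at h1
  have h2 := congrArg (fun f : P ⟶ I.obj => (f.app (op U)).hom (FreeAbelianGroup.of (𝟙 U))) h1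
  refine h2.trans ?_
  change FreeAbelianGroup.lift id (FreeAbelianGroup.map (fun g => (ConcreteCategory.hom (m.app (op U))) g)
    (FreeAbelianGroup.of (𝟙 U))) = s
  rw [FreeAbelianGroup.map_of_apply, FreeAbelianGroup.lift_apply_of]
  exact (yonedaEquiv (F := I.obj ⋙ forget AddCommGrpCat.{u})).apply_symm_apply s

end Groth.Agent.SiteTorsion
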